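import Mathlib

/-!
# Monomorphisms into disjoint unions of spectra of fields
-/

set_option autoImplicit false
set_option backward.isDefEq.respectTransparency false
set_option linter.style.haveILetI false
set_option linter.deprecated false
universe u
open CategoryTheory CategoryTheory.Limits AlgebraicGeometry

namespace Groth.Agent.SchMonoField

/-- A monomorphism from a nonempty scheme to the spectrum of a field is an isomorphism. -/
lemma isIso_of_mono {K : Type u} [Field K] {W : Scheme.{u}}
    (g : W ⟶ Spec (CommRingCat.of K)) [Mono g] (hne : Nonempty W) : IsIso g := by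
  obtain ⟨w⟩ := hne
  haveI : Subsingleton W := ⟨fun a b => g.injective (Subsingleton.elim _ _)⟩
  haveI : CompactSpace W := Finite.compactSpace
  haveI : Surjective g := ⟨fun p => ⟨w, Subsingleton.elim _ _⟩⟩
  haveI : IsAffine W := inferInstance
  exact Flat.isIso_of_surjective_of_mono g

/-- A monomorphism into a disjoint union of spectra of fields is the inclusion of a sub-union. -/
theorem exists_iso_sigma {ι : Type u} (k : ι → Type u) [∀ i, Field (k i)]
    {Y : Scheme.{u}} (f : Y ⟶ ∐ fun i => Spec (CommRingCat.of (k i))) [Mono f] :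
    ∃ (J : Set ι) (e : Y ≅ ∐ fun j : J => Spec (CommRingCat.of (k j.1))),
      e.hom ≫ Sigma.desc (fun j : J => Sigma.ι (fun i => Spec (CommRingCat.of (k i))) j.1) = f := by
  let F := fun i => Spec (CommRingCat.of (k i))
  let J : Set ι := {i | Nonempty ↥(pullback f (Sigma.ι F i))}
  let F' := fun j : J => F j.1
  let incl : ∐ F' ⟶ ∐ F := Sigma.desc (fun j : J => Sigma.ι F j.1)
  haveI : IsOpenImmersion incl := by
    refine isOpenImmersion_sigmaDesc _ _ fun i j hij => ?_
    refine Set.disjoint_left.2 ?_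
    rintro _ ⟨a, rfl⟩ ⟨b, hb⟩
    exact hij (Subtype.ext (congrArg Sigma.fst ((sigmaι_eq_iff F j.1 i.1 b a).1 hb)).symm)
  have hs : ∀ j : J, IsIso (pullback.snd f (Sigma.ι F j.1)) := fun j => isIso_of_mono _ j.2
  let h : ∐ F' ⟶ Y := Sigma.desc fun j : J =>
    haveI := hs j
    inv (pullback.snd f (Sigma.ι F j.1)) ≫ pullback.fst f (Sigma.ι F j.1)
  have hh : h ≫ f = incl := by
    refine Sigma.hom_ext _ _ fun j => ?_
    haveI := hs j
    simp [h, incl, F', pullback.condition]
  have hr : Set.range f ⊆ Set.range incl := by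
    rintro _ ⟨y, rfl⟩
    obtain ⟨⟨i, p⟩, hp⟩ := (sigmaMk F).surjective (f y)
    rw [sigmaMk_mk] at hp
    obtain ⟨z, -⟩ := Scheme.Pullback.exists_preimage_pullback (f := f) (g := Sigma.ι F i) y p hp.symm
    refine ⟨Sigma.ι F' ⟨i, ⟨z⟩⟩ p, ?_⟩
    rw [← hp, ← Scheme.Hom.comp_apply]
    simp [incl, F']
  let t : Y ⟶ ∐ F' := IsOpenImmersion.lift incl f hr
  have ht : t ≫ incl = f := IsOpenImmersion.lift_fac _ _ _
  refine ⟨J, ⟨t, h, ?_, ?_⟩, ht⟩
  · rw [← cancel_mono f, Category.assoc, hh, ht, Category.id_comp]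
  · rw [← cancel_mono incl, Category.assoc, ht, hh, Category.id_comp]

/-- A monomorphism into the spectrum of a finite product of fields. -/
theorem exists_iso_pi {ι : Type u} [Finite ι] (k : ι → Type u) [∀ i, Field (k i)]
    {X : Scheme.{u}} (f : X ⟶ Spec (CommRingCat.of (Π i, k i))) [Mono f] :
    ∃ (I : Set ι) (e : X ≅ Spec (CommRingCat.of (Π i : I, k i))),
      e.hom ≫ Spec.map (CommRingCat.ofHom (Pi.ringHom fun i : I => Pi.evalRingHom k i.1)) = f := by
  let s := sigmaSpec (fun i => CommRingCat.of (k i))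
  obtain ⟨J, e, he⟩ := exists_iso_sigma k (f ≫ inv s)
  let sJ := sigmaSpec (fun j : J => CommRingCat.of (k j.1))
  refine ⟨J, e ≪≫ asIso sJ, ?_⟩
  have key : sJ ≫ Spec.map (CommRingCat.ofHom (Pi.ringHom fun i : J => Pi.evalRingHom k i.1)) =
      Sigma.desc (fun j : J => Sigma.ι (fun i => Spec (CommRingCat.of (k i))) j.1) ≫ s := by
    refine Sigma.hom_ext _ _ fun j => ?_
    simp only [sJ, s, ι_sigmaSpec_assoc, Sigma.ι_desc_assoc, ι_sigmaSpec, ← Spec.map_comp]
    rfl
  simp only [Iso.trans_hom, asIso_hom, Category.assoc]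
  erw [key]
  rw [← Category.assoc, he, Category.assoc, IsIso.inv_hom_id, Category.comp_id]

end Groth.Agent.SchMonoField
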